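import Groth.Agent.OpenSmoothLib.Comp
import Groth.Agent.FibLib.RepMor
import Groth.Agent.S2757
import Groth.Agent.S0114

/-! Formation of the smooth locus commutes with flat base change. -/

set_option autoImplicit false
set_option linter.all false
set_option backward.isDefEq.respectTransparency false
set_option backward.isDefEq.respectTransparency.types false

noncomputable section

universe u

open CategoryTheory CategoryTheory.Limits AlgebraicGeometry Opposite AlgSp FibCat FibLib AlgSpLib AlgStLib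

namespace OpenSmoothLib

section Scheme

variable {W U V' V : Scheme.{u}} {p₁ : W ⟶ U} {p₂ : W ⟶ V'} {k : U ⟶ V} {g : V' ⟶ V}

lemma smooth_preimage (sq : IsPullback p₁ p₂ k g) (O : U.Opens) [Smooth (O.ι ≫ k)] :
    Smooth ((p₁ ⁻¹ᵁ O).ι ≫ p₂) :=
  MorphismProperty.of_isPullback ((isPullback_morphismRestrict p₁ O).paste_vert sq)
    (inferInstance : Smooth (O.ι ≫ k))

lemma smooth_nhd_of_lfp (sq : IsPullback p₁ p₂ k g) [Flat g] [LocallyOfFinitePresentation k]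
    (O'' : W.Opens) [Smooth (O''.ι ≫ p₂)] (t : W) (ht : t ∈ O'') :
    ∃ U₁ : U.Opens, p₁ t ∈ U₁ ∧ Smooth (U₁.ι ≫ k) := by
  let e := sq.isoPullback
  have hx : e.hom t ∈ e.inv ⁻¹ᵁ O'' := by
    show e.inv (e.hom t) ∈ O''
    rw [← Scheme.Hom.comp_apply, e.hom_inv_id]
    exact ht
  obtain ⟨U₁, h₁, h₂⟩ := Groth.Agent.S2757.result k g (e.hom t) (Flat.stalkMap g _) ⟨e.inv ⁻¹ᵁ O'', hx, by
    have : (e.inv ⁻¹ᵁ O'').ι ≫ pullback.snd k g = (e.inv ∣_ O'') ≫ O''.ι ≫ p₂ := by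
      rw [morphismRestrict_ι_assoc, IsPullback.isoPullback_inv_snd]
    rw [this]
    infer_instance⟩
  refine ⟨U₁, ?_, h₂⟩
  rw [← Scheme.Hom.comp_apply, IsPullback.isoPullback_hom_fst] at h₁
  exact h₁

lemma smooth_nhd (sq : IsPullback p₁ p₂ k g) [Flat g]
    (hfp : LocallyOfFinitePresentation g ∨ LocallyOfFinitePresentation k)
    (O'' : W.Opens) [hsm : Smooth (O''.ι ≫ p₂)] (t : W) (ht : t ∈ O'') :
    ∃ U₁ : U.Opens, p₁ t ∈ U₁ ∧ Smooth (U₁.ι ≫ k) := by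
  rcases hfp with hg | hk
  swap
  · exact smooth_nhd_of_lfp sq O'' t ht
  haveI : Flat p₁ := MorphismProperty.of_isPullback sq.flip (inferInstance : Flat g)
  haveI : LocallyOfFinitePresentation p₁ := MorphismProperty.of_isPullback sq.flip hg
  let U₁ : U.Opens := ⟨p₁ '' (O'' : Set W), p₁.isOpenMap _ O''.2⟩
  have hW : O'' ≤ p₁ ⁻¹ᵁ U₁ := fun s hs => ⟨s, hs, rfl⟩
  let r := p₁.resLE U₁ O'' hW
  haveI : Surjective r := ⟨fun w => by
    obtain ⟨s, hs, hsw⟩ := w.2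
    refine ⟨⟨s, hs⟩, U₁.ι.isOpenEmbedding.injective ?_⟩
    rw [← Scheme.Hom.comp_apply, Scheme.Hom.resLE_comp_ι, Scheme.Hom.comp_apply]
    exact hsw⟩
  haveI : Flat r := IsZariskiLocalAtSource.resLE (P := @Flat) hW inferInstance
  haveI : LocallyOfFinitePresentation r :=
    IsZariskiLocalAtSource.resLE (P := @LocallyOfFinitePresentation) hW inferInstance
  haveI : LocallyOfFinitePresentation (r ≫ U₁.ι ≫ k) := by
    rw [Scheme.Hom.resLE_comp_ι_assoc, sq.w, ← Category.assoc]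
    infer_instance
  haveI : LocallyOfFinitePresentation (U₁.ι ≫ k) := Groth.Agent.S0114.result r _
  have sq₁ := (isPullback_morphismRestrict p₁ U₁).paste_vert sq
  haveI : Smooth (((p₁ ⁻¹ᵁ U₁).ι ⁻¹ᵁ O'').ι ≫ (p₁ ⁻¹ᵁ U₁).ι ≫ p₂) := by
    rw [← morphismRestrict_ι_assoc]
    infer_instance
  obtain ⟨U₂, h₁, h₂⟩ := smooth_nhd_of_lfp sq₁ ((p₁ ⁻¹ᵁ U₁).ι ⁻¹ᵁ O'') ⟨t, hW ht⟩ ht
  refine ⟨U₁.ι ''ᵁ U₂, ⟨_, h₁, ?_⟩, ?_⟩
  · exact congrArg (fun φ : (p₁ ⁻¹ᵁ U₁).toScheme ⟶ U => φ ⟨t, hW ht⟩) (morphismRestrict_ι p₁ U₁)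
  · rw [show (U₁.ι ''ᵁ U₂).ι = (U₁.ι.isoImage U₂).inv ≫ U₂.ι ≫ U₁.ι by
      rw [← Scheme.Hom.isoImage_hom_ι, Iso.inv_hom_id_assoc]]
    haveI := h₂
    simp only [Category.assoc]
    infer_instance

end Scheme

variable {S : Scheme.{u}} {𝒳 𝒴 𝒵 : AlgSt.Cat S}

/-- The image of an open of a chart on which the chart map is smooth lies in the smooth locus. -/
theorem mem_largest_of_smooth (h𝒳 : AlgSt.IsAlgStack Scheme.fppfPrecoverage 𝒳)
    (h𝒴 : AlgSt.IsAlgStack Scheme.fppfPrecoverage 𝒴) (f : 𝒳 ⥤ᵇ 𝒴)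
    (Q : 𝒳.obj → Prop) (hQ₁ : AlgSt.IsOpenSubstack 𝒳 Q Scheme.fppfPrecoverage)
    (hQ₃ : ∀ Q' : 𝒳.obj → Prop, AlgSt.IsOpenSubstack 𝒳 Q' Scheme.fppfPrecoverage →
      AlgSt.LocQ (AlgSp.LocP @Smooth) (BasedFunctor.comp (AlgSt.subIncl 𝒳 Q') f) → ∀ a, Q' a → Q a)
    {U V : Over S} {v : overCat V ⥤ᵇ 𝒴} (hv : AlgSt.RepByAlgSpWith (LocP @Smooth) v)
    {d : overCat U ⥤ᵇ fp f v} {k : U ⟶ V} (β : BasedFunctor.comp d (FibCat.fpSnd f v) ≅ AlgSt.overMap k)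
    (hx : AlgSt.RepByAlgSpWith (LocP @Smooth) (BasedFunctor.comp d (FibCat.fpFst f v)))
    (hxs : AlgSt.RepByAlgSpWith IsSurjectiveMor (BasedFunctor.comp d (FibCat.fpFst f v)))
    (W : U.left.Opens) [hW : Smooth (W.ι ≫ k.left)] (t : U.left) (ht : t ∈ W) :
    AlgSt.Points.ofChart (BasedFunctor.comp d (FibCat.fpFst f v)) t ∈
      Set.range (AlgSt.Points.map (AlgSt.subIncl 𝒳 Q)) := by
  haveI := isFibGrpd_of_isAlgStack h𝒳
  haveI := isFibGrpd_of_isAlgStack h𝒴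
  haveI := AlgStLib.isFibGrpd_overCat U
  haveI := AlgStLib.isFibGrpd_overCat V
  let x := BasedFunctor.comp d (FibCat.fpFst f v)
  let T₁ := AlgSt.Points.ofChart x '' (W : Set U.left)
  have hT₁ : IsOpen T₁ := isOpenMap_ofChart_smooth x hx _ W.2
  have hQ₁' := isOpenSubstack_ptsIn h𝒳 hT₁
  haveI := isFibGrpd_of_isAlgStack hQ₁'.2.1
  let O := chartOpens h𝒳 hT₁ x
  obtain ⟨x₁, e, hx₁, -⟩ := exists_chart_restrict h𝒳 hQ₁' hx hxs O
    fun s => by rw [range_subIncl_ptsIn]; rfl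
  let j : Over.mk (O.ι ≫ U.hom) ⟶ U := Over.homMk O.ι rfl
  have hWO : W ≤ O := fun s hs => ⟨s, hs, rfl⟩
  let U₂ : Over S := Over.mk (W.ι ≫ U.hom)
  let i : U₂ ⟶ Over.mk (O.ι ≫ U.hom) := Over.homMk (U.left.homOfLE hWO) (by
    show U.left.homOfLE hWO ≫ O.ι ≫ U.hom = W.ι ≫ U.hom
    rw [Scheme.homOfLE_ι_assoc])
  haveI := AlgStLib.isFibGrpd_overCat U₂
  haveI := AlgStLib.isFibGrpd_overCat (Over.mk (O.ι ≫ U.hom))
  have hij : i ≫ j = (Over.homMk W.ι rfl : U₂ ⟶ U) := Over.OverMorphism.ext (U.left.homOfLE_ι hWO)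
  let x₂ := BasedFunctor.comp (AlgSt.overMap i) x₁
  have hx₂ : AlgSt.RepByAlgSpWith (LocP @Smooth) x₂ :=
    repByAlgSpWith_comp' good_smooth (repByAlgSpWith_overMap good_smooth.bc i
      ((locP_yon_map_iff i).2 (inferInstanceAs (Smooth (U.left.homOfLE hWO))))) hx₁
  have e₂ : BasedFunctor.comp x₂ (AlgSt.subIncl 𝒳 (PtsIn T₁)) =
      BasedFunctor.comp (AlgSt.overMap (i ≫ j)) x := by
    rw [AlgStLib.overMap_comp]
    exact congrArg (BasedFunctor.comp (AlgSt.overMap i) ·) e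
  have hx₂s : AlgSt.RepByAlgSpWith IsSurjectiveMor x₂ :=
    (surjective_iff_repByAlgSpWith (repByAlgSp1_of_with hx₂)).1 fun p => by
      have hp : AlgSt.Points.map (AlgSt.subIncl 𝒳 (PtsIn T₁)) p ∈ T₁ :=
        (range_subIncl_ptsIn T₁).subset ⟨p, rfl⟩
      obtain ⟨s, hs, hsp⟩ := hp
      have e₃ : AlgSt.Points.ofChart x₂ (⟨s, hs⟩ : U₂.left) = p := by
        refine injective_map_subIncl hQ₁' ?_
        rw [← hsp]
        refine ((congrFun (ofChart_comp x₂ _) _).symm).trans ?_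
        rw [e₂, hij]
        exact congrFun (ofChart_overMap _ x) _
      obtain ⟨y, hy⟩ : p ∈ Set.range (AlgSt.Points.map (BasedFunctor.comp (AlgSt.toOverCat U₂) x₂)) := by
        rw [← range_ptMap, ← range_ofChart]
        exact ⟨_, e₃⟩
      exact ⟨AlgSt.Points.map (AlgSt.toOverCat U₂) y, (map_comp _ _ _).symm.trans hy⟩
  let α : BasedFunctor.comp x₂ (BasedFunctor.comp (AlgSt.subIncl 𝒳 (PtsIn T₁)) f) ≅
      BasedFunctor.comp (AlgSt.overMap ((i ≫ j) ≫ k)) v :=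
    eqToIso (congrArg (BasedFunctor.comp · f) e₂) ≪≫ whiskerLeftIso' (AlgSt.overMap (i ≫ j)) (fpSq d β) ≪≫
      eqToIso (by rw [AlgStLib.overMap_comp (i ≫ j) k]; rfl)
  have hsm : AlgSt.LocQ (LocP @Smooth) (BasedFunctor.comp (AlgSt.subIncl 𝒳 (PtsIn T₁)) f) :=
    ⟨U₂, V, x₂, v, (i ≫ j) ≫ k, α, hx₂, hx₂s, hv, (locP_yon_map_iff ((i ≫ j) ≫ k)).2 (by
      rw [hij]; exact hW)⟩
  exact (openSubstack_le_iff h𝒳 hQ₁' hQ₁).1 (hQ₃ _ hQ₁' hsm)
    ((range_subIncl_ptsIn T₁).superset ⟨t, ht, rfl⟩)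

/-- The chart of a fibre product over a chart of one factor. -/
theorem exists_pullback_chart (h𝒳 : AlgSt.IsAlgStack Scheme.fppfPrecoverage 𝒳)
    (h𝒴 : AlgSt.IsAlgStack Scheme.fppfPrecoverage 𝒴) (h𝒵 : AlgSt.IsAlgStack Scheme.fppfPrecoverage 𝒵)
    (f : 𝒳 ⥤ᵇ 𝒴) (z : 𝒵 ⥤ᵇ 𝒴) {U V V' : Over S} {v : overCat V ⥤ᵇ 𝒴} {d : overCat U ⥤ᵇ fp f v}
    {k : U ⟶ V} (β : BasedFunctor.comp d (FibCat.fpSnd f v) ≅ AlgSt.overMap k)
    (hd : AlgSt.RepByAlgSpWith (LocP @Smooth) d) (hds : AlgSt.RepByAlgSpWith IsSurjectiveMor d)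
    {c : overCat V' ⥤ᵇ fp z v} {m : V' ⟶ V} (γ : BasedFunctor.comp c (FibCat.fpSnd z v) ≅ AlgSt.overMap m) :
    ∃ (L : overCat (pullback k m) ⥤ᵇ fp (FibCat.fpFst z f) (BasedFunctor.comp c (FibCat.fpFst z v))),
      Nonempty (BasedFunctor.comp L (FibCat.fpSnd _ _) ≅ AlgSt.overMap (pullback.snd k m)) ∧
      Nonempty (BasedFunctor.comp (BasedFunctor.comp L (FibCat.fpFst _ _)) (FibCat.fpSnd z f) ≅
        BasedFunctor.comp (AlgSt.overMap (pullback.fst k m)) (BasedFunctor.comp d (FibCat.fpFst f v))) ∧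
      AlgSt.RepByAlgSpWith (LocP @Smooth) L ∧ AlgSt.RepByAlgSpWith IsSurjectiveMor L := by
  haveI := isFibGrpd_of_isAlgStack h𝒳
  haveI := isFibGrpd_of_isAlgStack h𝒴
  haveI := isFibGrpd_of_isAlgStack h𝒵
  haveI := AlgStLib.isFibGrpd_overCat U
  haveI := AlgStLib.isFibGrpd_overCat V
  haveI := AlgStLib.isFibGrpd_overCat V'
  haveI := AlgStLib.isFibGrpd_overCat (pullback k m)
  haveI := full_id 𝒴
  haveI := faithful_id 𝒴
  haveI := full_id 𝒵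
  haveI := faithful_id 𝒵
  haveI := full_id (overCat V)
  haveI := faithful_id (overCat V)
  let y' := BasedFunctor.comp c (FibCat.fpFst z v)
  let γ' : BasedFunctor.comp y' z ≅ BasedFunctor.comp (AlgSt.overMap m) v := fpSq c γ
  haveI : IsFibGrpd (fp f v).p := isFibGrpd_fp
  haveI : IsFibGrpd (fp z f).p := isFibGrpd_fp
  let C₀ : fp (AlgSt.overMap k) (AlgSt.overMap m) ⥤ᵇ fp (BasedFunctor.comp d (FibCat.fpSnd f v)) (AlgSt.overMap m) :=
    fpMap (a := BasedFunctor.id _) (b := BasedFunctor.id _) (c := BasedFunctor.id _)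
      (F' := AlgSt.overMap k) (G' := AlgSt.overMap m) β (Iso.refl _)
  let K := BasedFunctor.comp (FibLib.sliceCmp k m) C₀
  have hK : IsEquivOver K := isEquivOver_comp (isEquivOver_sliceCmp k m)
    (isEquivOver_fpMap _ _ (isEquivOver_id _) (isEquivOver_id _))
  let Q₁ := pairLeft d (FibCat.fpSnd f v) (AlgSt.overMap m)
  let E := BasedFunctor.comp (fpCompRight f (AlgSt.overMap m) v)
    (fpMap (a := BasedFunctor.id _) (b := BasedFunctor.id _) (c := BasedFunctor.id _)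
      (F := f) (G := BasedFunctor.comp y' z) (F' := f) (G' := BasedFunctor.comp (AlgSt.overMap m) v)
      (Iso.refl _) γ')
  have hE : IsEquivOver E := isEquivOver_comp (isEquivOver_fpCompRight f (AlgSt.overMap m) v)
    (isEquivOver_fpMap _ _ (isEquivOver_id _) (isEquivOver_id _))
  obtain ⟨J, hJ, -, ⟨ν⟩⟩ := exists_inverse (isEquivOver_fpCompRight f y' z)
  let M : fp (FibCat.fpSnd f z) y' ⥤ᵇ fp (FibCat.fpFst z f) y' :=
    fpMap (a := fpSwap f z) (b := BasedFunctor.id _) (c := BasedFunctor.id _)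
      (F' := FibCat.fpSnd f z) (G' := y') (Iso.refl _) (Iso.refl _)
  have hM : IsEquivOver M := isEquivOver_fpMap _ _ (isEquivOver_fpSwap f z) (isEquivOver_id _)
  haveI : IsFibGrpd (fp (BasedFunctor.comp d (FibCat.fpSnd f v)) (AlgSt.overMap m)).p := isFibGrpd_fp
  haveI : IsFibGrpd (fp (FibCat.fpSnd f v) (AlgSt.overMap m)).p := isFibGrpd_fp
  haveI : IsFibGrpd (fp (FibCat.fpFst z f) y').p := isFibGrpd_fp
  let N := BasedFunctor.comp E (BasedFunctor.comp J M)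
  have hN : IsEquivOver N := isEquivOver_comp hE (isEquivOver_comp hJ hM)
  obtain ⟨N', hN', ⟨μ⟩, -⟩ := exists_inverse hN
  let L := BasedFunctor.comp (BasedFunctor.comp K Q₁) N
  have hL : ∀ P : MorphismProperty (Sp S), AlgSt.RepByAlgSpWith P d → AlgSt.RepByAlgSpWith P L := fun P hP => by
    refine (repByAlgSpWith_square_iff (f := BasedFunctor.comp K Q₁) (f' := L)
      (a := BasedFunctor.id _) (b := N') (isEquivOver_id _) hN'
      (whiskerLeftIso' (BasedFunctor.comp K Q₁) μ) _).mp ?_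
    exact (repByAlgSpWith_square_iff (f := Q₁) (f' := BasedFunctor.comp K Q₁) (a := K) (b := BasedFunctor.id _)
      hK (isEquivOver_id _) (Iso.refl _) _).mp (repByAlgSpWith_pairLeft d (FibCat.fpSnd f v) (AlgSt.overMap m) hP)
  exact ⟨L, ⟨whiskerLeftIso' (BasedFunctor.comp (BasedFunctor.comp K Q₁) E)
      (whiskerRightIso' ν (FibCat.fpSnd f (BasedFunctor.comp y' z)))⟩,
    ⟨whiskerLeftIso' (BasedFunctor.comp (BasedFunctor.comp K Q₁) E)
      (whiskerRightIso' ν (FibCat.fpFst f (BasedFunctor.comp y' z)))⟩, hL _ hd, hL _ hds⟩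

/-- Formation of the smooth locus commutes with flat base change. -/
theorem largest_baseChange {𝒴' : AlgSt.Cat S} (h𝒳 : AlgSt.IsAlgStack Scheme.fppfPrecoverage 𝒳)
    (h𝒴 : AlgSt.IsAlgStack Scheme.fppfPrecoverage 𝒴)
    (h𝒴' : AlgSt.IsAlgStack Scheme.fppfPrecoverage 𝒴')
    (f : 𝒳 ⥤ᵇ 𝒴) (y : 𝒴' ⥤ᵇ 𝒴) (hy : AlgSt.LocQ (AlgSp.LocP @Flat) y)
    (hfp : AlgSt.LocQ (AlgSp.LocP @LocallyOfFinitePresentation) y ∨
      AlgSt.LocQ (AlgSp.LocP @LocallyOfFinitePresentation) f)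
    (Q : 𝒳.obj → Prop) (hQ₁ : AlgSt.IsOpenSubstack 𝒳 Q Scheme.fppfPrecoverage)
    (hQ₂ : AlgSt.LocQ (AlgSp.LocP @Smooth) (BasedFunctor.comp (AlgSt.subIncl 𝒳 Q) f))
    (hQ₃ : ∀ Q' : 𝒳.obj → Prop, AlgSt.IsOpenSubstack 𝒳 Q' Scheme.fppfPrecoverage →
      AlgSt.LocQ (AlgSp.LocP @Smooth) (BasedFunctor.comp (AlgSt.subIncl 𝒳 Q') f) → ∀ a, Q' a → Q a) :
    AlgSt.IsOpenSubstack (FibCat.fp y f) (fun b ↦ Q b.obj.snd) Scheme.fppfPrecoverage ∧
      AlgSt.LocQ (AlgSp.LocP @Smooth)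
        (BasedFunctor.comp (AlgSt.subIncl (FibCat.fp y f) fun b ↦ Q b.obj.snd) (FibCat.fpFst y f)) ∧
      ∀ Q' : (FibCat.fp y f).obj → Prop, AlgSt.IsOpenSubstack (FibCat.fp y f) Q' Scheme.fppfPrecoverage →
        AlgSt.LocQ (AlgSp.LocP @Smooth) (BasedFunctor.comp (AlgSt.subIncl (FibCat.fp y f) Q') (FibCat.fpFst y f)) →
        ∀ b, Q' b → Q b.obj.snd := by
  haveI := isFibGrpd_of_isAlgStack h𝒳
  haveI := isFibGrpd_of_isAlgStack h𝒴
  haveI := isFibGrpd_of_isAlgStack h𝒴'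
  haveI : IsFibGrpd (fp y f).p := isFibGrpd_fp
  have h𝒫 := isAlgStack_fp' h𝒴' h𝒳 h𝒴 y f
  let T := Set.range (AlgSt.Points.map (AlgSt.subIncl 𝒳 Q))
  have hT : IsOpen T := (bijOn_openSubstack h𝒳).1 hQ₁
  let T' := AlgSt.Points.map (FibCat.fpSnd y f) ⁻¹' T
  have hT' : IsOpen T' := hT.preimage (continuous_map h𝒳.atlas (FibCat.fpSnd y f))
  have hQg : (fun b : (FibCat.fp y f).obj ↦ Q b.obj.snd) = PtsIn T' := funext fun b => propext
    ((iff_of_eq (congrFun (openSubstack_eq h𝒳 hQ₁) b.obj.snd)).trans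
      (ptsIn_obj_preimage (FibCat.fpSnd y f) T b))
  have hQ' : AlgSt.IsOpenSubstack (fp y f) (PtsIn T') Scheme.fppfPrecoverage := isOpenSubstack_ptsIn h𝒫 hT'
  obtain ⟨V, v, hv, hvs⟩ := h𝒴.atlas
  obtain ⟨U, d, k, ⟨β⟩, hd, hds, hx, hxs⟩ := exists_chartOver h𝒳 h𝒴 f v hv
  obtain ⟨V', c, m, ⟨γ⟩, hc, -, hv', hvs'⟩ := exists_chartOver h𝒴' h𝒴 y v hv
  obtain ⟨L, ⟨δ⟩, ⟨ε⟩, hL, hLs⟩ := exists_pullback_chart h𝒳 h𝒴 h𝒴' f y β hd hds γ
  haveI := AlgStLib.isFibGrpd_overCat U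
  haveI := AlgStLib.isFibGrpd_overCat V'
  haveI := AlgStLib.isFibGrpd_overCat (pullback k m)
  haveI : IsFibGrpd (fp (FibCat.fpFst y f) (BasedFunctor.comp c (FibCat.fpFst y v))).p := isFibGrpd_fp
  let x := BasedFunctor.comp d (FibCat.fpFst f v)
  let xW := BasedFunctor.comp L (FibCat.fpFst (FibCat.fpFst y f) (BasedFunctor.comp c (FibCat.fpFst y v)))
  have hxW : AlgSt.RepByAlgSpWith (LocP @Smooth) xW :=
    repByAlgSpWith_comp' good_smooth hL (repByAlgSpWith_fpFst _ _ hv')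
  have hxWs : AlgSt.RepByAlgSpWith IsSurjectiveMor xW :=
    repByAlgSpWith_comp' good_surjective hLs (repByAlgSpWith_fpFst _ _ (hvs' hvs))
  have sq : IsPullback (pullback.fst k m).left (pullback.snd k m).left k.left m.left :=
    (IsPullback.of_hasPullback k m).map (Over.forget S)
  have hm : Flat m.left := locP_yon_map (prop_chartOver isSmoothLocalST_flat h𝒴' h𝒴 hy hv γ hc)
  have hmk : LocallyOfFinitePresentation m.left ∨ LocallyOfFinitePresentation k.left :=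
    hfp.imp (fun h => locP_yon_map (prop_chartOver isSmoothLocalST_lfp h𝒴' h𝒴 h hv γ hc))
      (fun h => locP_yon_map (prop_chartOver isSmoothLocalST_lfp h𝒳 h𝒴 h hv β hd))
  have hpt : ∀ t, AlgSt.Points.map (FibCat.fpSnd y f) (AlgSt.Points.ofChart xW t) =
      AlgSt.Points.ofChart x ((pullback.fst k m).left t) := fun t => by
    refine ((congrFun (ofChart_comp _ _) t).symm).trans ?_
    rw [ofChart_congr ε]
    exact congrFun (ofChart_overMap _ x) t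
  let O := chartOpens h𝒳 hT x
  refine ⟨hQg ▸ hQ', ?_, fun Q' hQ'₁ hQ'₂ b hb => ?_⟩
  · rw [hQg]
    refine (locQ_smooth_sub_iff h𝒫 h𝒴' hQ' (FibCat.fpFst y f) hv' δ hL hxW hxWs
      ((pullback.fst k m).left ⁻¹ᵁ O) fun t => ?_).2 ?_
    · rw [range_subIncl_ptsIn]
      show AlgSt.Points.ofChart x ((pullback.fst k m).left t) ∈ T ↔ _
      rw [← hpt]
      rfl
    · haveI : Smooth (O.ι ≫ k.left) :=
        (locQ_smooth_sub_iff h𝒳 h𝒴 hQ₁ f hv β hd hx (hxs hvs) O fun t => Iff.rfl).1 hQ₂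
      exact smooth_preimage sq O
  · let T'' := Set.range (AlgSt.Points.map (AlgSt.subIncl (fp y f) Q'))
    have hT'' : IsOpen T'' := (bijOn_openSubstack h𝒫).1 hQ'₁
    let O'' := chartOpens h𝒫 hT'' xW
    haveI : Smooth (O''.ι ≫ (pullback.snd k m).left) :=
      (locQ_smooth_sub_iff h𝒫 h𝒴' hQ'₁ (FibCat.fpFst y f) hv' δ hL hxW hxWs O'' fun t => Iff.rfl).1 hQ'₂
    refine (iff_of_eq (congrFun hQg b)).2 ?_
    have hle : T'' ⊆ T' := fun p hp => by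
      obtain ⟨t, rfl⟩ := surjective_ofChart hxWs p
      obtain ⟨U₁, h₁, h₂⟩ := smooth_nhd sq hmk O'' t hp
      show _ ∈ T
      rw [hpt]
      exact mem_largest_of_smooth h𝒳 h𝒴 f Q hQ₁ hQ₃ hv β hx (hxs hvs) U₁ _ h₁
    exact fun p n => hle ((congrFun (openSubstack_eq h𝒫 hQ'₁) b ▸ hb : PtsIn T'' b) p n)

end OpenSmoothLib
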