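import Groth.Agent.AlgStLib.Substack
import Groth.Agent.AlgStLib.LocQ5
import Groth.Agent.AlgStLib.PointsQc
import Groth.Agent.AlgStLib.Rows3
import Groth.Agent.S0115

/-! Smoothness on open substacks, read on a chart over a chart. -/

set_option autoImplicit false
set_option linter.all false
set_option backward.isDefEq.respectTransparency false
set_option backward.isDefEq.respectTransparency.types false

noncomputable section

universe u

open CategoryTheory CategoryTheory.Limits AlgebraicGeometry Opposite AlgSp FibCat FibLib AlgSpLib AlgStLib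

namespace OpenSmoothLib

variable {S : Scheme.{u}}

theorem isSmoothLocalST_smooth : IsSmoothLocalST (LocP @Smooth : MorphismProperty (Sp S)) :=
  isSmoothLocalST_locP _ le_rfl fun π k hπ hs h => by
    haveI := hπ
    haveI := hs
    haveI : Smooth (π ≫ k) := h
    exact Groth.Agent.S0115.result π k

/-- A property of a composite with a fully faithful functor is a property of the first functor. -/
theorem repByAlgSpWith_of_comp_ff {𝒲 𝒴 𝒳 : AlgSt.Cat S} {P : MorphismProperty (Sp S)} (x : 𝒲 ⥤ᵇ 𝒴)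
    (ι : 𝒴 ⥤ᵇ 𝒳) [ι.toFunctor.Full] [ι.toFunctor.Faithful]
    (h : AlgSt.RepByAlgSpWith P (BasedFunctor.comp x ι)) : AlgSt.RepByAlgSpWith P x := by
  refine (repByAlgSpWith_iff _ _).mpr fun T u => ?_
  obtain ⟨H, a, hH, ha, hP⟩ := (repByAlgSpWith_iff _ _).mp h T (BasedFunctor.comp u ι)
  have hM : IsEquivOver (fpMap (a := BasedFunctor.id _) (b := BasedFunctor.id 𝒲) (c := ι)
      (F := BasedFunctor.comp u ι) (G := BasedFunctor.comp x ι) (F' := u) (G' := x) (Iso.refl _) (Iso.refl _)) :=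
    isEquivOver_fpMap _ _ (isEquivOver_id _) (isEquivOver_id _)
  exact ⟨H, a, hH, PRep.transport_back ha hM (Iso.refl _), hP⟩

variable {𝒳 𝒴 : AlgSt.Cat S} {Q : 𝒳.obj → Prop}

instance : (AlgSt.subIncl 𝒳 Q).toFunctor.Full := inferInstanceAs (ObjectProperty.ι Q).Full
instance : (AlgSt.subIncl 𝒳 Q).toFunctor.Faithful := inferInstanceAs (ObjectProperty.ι Q).Faithful

lemma appIso_eqToIso_comp {𝒲 : AlgSt.Cat S} (f : 𝒳 ⥤ᵇ 𝒴) {F G : 𝒲 ⥤ᵇ 𝒳} (e : F = G) (o : 𝒲.obj) :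
    (appIso (eqToIso (congrArg (BasedFunctor.comp · f) e)) o).hom = f.map (appIso (eqToIso e) o).hom := by
  subst e
  exact (f.toFunctor.map_id _).symm

theorem injective_map_subIncl [IsFibGrpd 𝒳.p] (hQ : AlgSt.IsOpenSubstack 𝒳 Q Scheme.fppfPrecoverage) :
    Function.Injective (AlgSt.Points.map (AlgSt.subIncl 𝒳 Q)) := by
  haveI hgr := isFibGrpd_of_isAlgStack hQ.2.1
  haveI := hQ.1
  intro a b h
  obtain ⟨p, rfl⟩ := AlgSt.Points.mk_surjective a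
  obtain ⟨q, rfl⟩ := AlgSt.Points.mk_surjective b
  obtain ⟨r, m, n, -⟩ := mk_eq_mk_iff.mp h
  have hr : Q r.obj := mem_of_hom hgr m p.obj.property
  exact AlgSt.Points.sound ⟨{ K := r.K, str := r.str, obj := ⟨r.obj, hr⟩, lies := r.lies },
    ObjectProperty.homMk m, ObjectProperty.homMk n, trivial⟩

/-- The open subscheme of a chart over an open substack. -/
def chartOpens (h𝒳 : AlgSt.IsAlgStack Scheme.fppfPrecoverage 𝒳) {T : Set (AlgSt.Points 𝒳)} (hT : IsOpen T)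
    {U : Over S} (x : overCat U ⥤ᵇ 𝒳) : U.left.Opens :=
  ⟨AlgSt.Points.ofChart x ⁻¹' T, hT.preimage (by
    haveI := isFibGrpd_of_isAlgStack h𝒳
    exact continuous_ofChart h𝒳.atlas x)⟩

/-- A smooth surjective chart restricts to an open substack. -/
theorem exists_chart_restrict (h𝒳 : AlgSt.IsAlgStack Scheme.fppfPrecoverage 𝒳)
    (hQ : AlgSt.IsOpenSubstack 𝒳 Q Scheme.fppfPrecoverage) {U : Over S} {x : overCat U ⥤ᵇ 𝒳}
    (hx : AlgSt.RepByAlgSpWith (LocP @Smooth) x) (hxs : AlgSt.RepByAlgSpWith IsSurjectiveMor x)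
    (O : U.left.Opens)
    (hO : ∀ t, t ∈ O ↔ AlgSt.Points.ofChart x t ∈ Set.range (AlgSt.Points.map (AlgSt.subIncl 𝒳 Q))) :
    ∃ (x₁ : overCat (Over.mk (O.ι ≫ U.hom)) ⥤ᵇ AlgSt.fullSub 𝒳 Q),
      BasedFunctor.comp x₁ (AlgSt.subIncl 𝒳 Q) =
        BasedFunctor.comp (AlgSt.overMap (Over.homMk O.ι rfl : Over.mk (O.ι ≫ U.hom) ⟶ U)) x ∧
      AlgSt.RepByAlgSpWith (LocP @Smooth) x₁ ∧ AlgSt.RepByAlgSpWith IsSurjectiveMor x₁ := by
  haveI := isFibGrpd_of_isAlgStack h𝒳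
  haveI hgr := isFibGrpd_of_isAlgStack hQ.2.1
  let U₁ : Over S := Over.mk (O.ι ≫ U.hom)
  let j : U₁ ⟶ U := Over.homMk O.ι rfl
  haveI := AlgStLib.isFibGrpd_overCat U
  haveI := AlgStLib.isFibGrpd_overCat U₁
  let z : overCat U₁ ⥤ᵇ 𝒳 := BasedFunctor.comp (AlgSt.overMap j) x
  let w : AlgSt.ofSp ((yon S).obj U₁) ⥤ᵇ 𝒳 := BasedFunctor.comp (AlgSt.toOverCat U₁) z
  have hz : ∀ o, Q (z.obj o) := fun o => by
    rw [openSubstack_eq h𝒳 hQ]
    refine (ptsIn_obj_iff w ((AlgSt.ofOverCat U₁).obj o)).2 fun t => ?_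
    generalize Points.ofPt ((AlgSp.J S).uliftYonedaEquiv.symm ((AlgSt.ofOverCat U₁).obj o).sec :
      (yon S).obj ((AlgSt.ofOverCat U₁).obj o).base ⟶ (yon S).obj U₁) t = p
    obtain ⟨q, rfl⟩ := (Points.schemeHomeo U₁).surjective p
    have e : ptMap w (Points.schemeHomeo U₁ q) = AlgSt.Points.ofChart x (j.left q) :=
      ((congrFun (ofChart_eq z) q).symm).trans (congrFun (ofChart_overMap j x) q)
    rw [e]
    exact (hO _).1 q.2
  let x₁ : overCat U₁ ⥤ᵇ AlgSt.fullSub 𝒳 Q :=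
    { toFunctor := ObjectProperty.lift Q z.toFunctor hz
      w := z.w }
  have hj : LocP @Smooth ((yon S).map j) := (locP_yon_map_iff j).2 (inferInstanceAs (Smooth O.ι))
  have hzr : AlgSt.RepByAlgSpWith (LocP @Smooth) z :=
    repByAlgSpWith_comp' good_smooth (repByAlgSpWith_overMap good_smooth.bc j hj) hx
  have hx₁ : AlgSt.RepByAlgSpWith (LocP @Smooth) x₁ := repByAlgSpWith_of_comp_ff x₁ (AlgSt.subIncl 𝒳 Q) hzr
  refine ⟨x₁, rfl, hx₁, (surjective_iff_repByAlgSpWith (repByAlgSp1_of_with hx₁)).1 fun p => ?_⟩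
  obtain ⟨t, ht⟩ := surjective_ofChart hxs (AlgSt.Points.map (AlgSt.subIncl 𝒳 Q) p)
  have htO : t ∈ O := (hO t).2 ⟨p, ht.symm⟩
  have e : AlgSt.Points.ofChart x₁ (⟨t, htO⟩ : U₁.left) = p := by
    refine injective_map_subIncl hQ ?_
    rw [← ht]
    refine ((congrFun (ofChart_comp x₁ (AlgSt.subIncl 𝒳 Q)) _).symm).trans ?_
    exact congrFun (ofChart_overMap j x) _
  obtain ⟨y, hy⟩ : p ∈ Set.range (AlgSt.Points.map (BasedFunctor.comp (AlgSt.toOverCat U₁) x₁)) := by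
    rw [← range_ptMap, ← range_ofChart]
    exact ⟨_, e⟩
  exact ⟨AlgSt.Points.map (AlgSt.toOverCat U₁) y, (map_comp _ _ _).symm.trans hy⟩

/-- Smoothness on an open substack is smoothness of the chart map on the open over it. -/
theorem locQ_smooth_sub_iff (h𝒳 : AlgSt.IsAlgStack Scheme.fppfPrecoverage 𝒳)
    (h𝒴 : AlgSt.IsAlgStack Scheme.fppfPrecoverage 𝒴) (hQ : AlgSt.IsOpenSubstack 𝒳 Q Scheme.fppfPrecoverage)
    (f : 𝒳 ⥤ᵇ 𝒴) {U V : Over S} {y : overCat V ⥤ᵇ 𝒴} (hy : AlgSt.RepByAlgSpWith (LocP @Smooth) y)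
    {d : overCat U ⥤ᵇ fp f y} {k : U ⟶ V} (β : BasedFunctor.comp d (FibCat.fpSnd f y) ≅ AlgSt.overMap k)
    (hd : AlgSt.RepByAlgSpWith (LocP @Smooth) d)
    (hx : AlgSt.RepByAlgSpWith (LocP @Smooth) (BasedFunctor.comp d (FibCat.fpFst f y)))
    (hxs : AlgSt.RepByAlgSpWith IsSurjectiveMor (BasedFunctor.comp d (FibCat.fpFst f y)))
    (O : U.left.Opens) (hO : ∀ t, t ∈ O ↔ AlgSt.Points.ofChart (BasedFunctor.comp d (FibCat.fpFst f y)) t ∈
      Set.range (AlgSt.Points.map (AlgSt.subIncl 𝒳 Q))) :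
    AlgSt.LocQ (LocP @Smooth) (BasedFunctor.comp (AlgSt.subIncl 𝒳 Q) f) ↔ Smooth (O.ι ≫ k.left) := by
  haveI := isFibGrpd_of_isAlgStack h𝒳
  haveI := isFibGrpd_of_isAlgStack h𝒴
  haveI hgr := isFibGrpd_of_isAlgStack hQ.2.1
  let U₁ : Over S := Over.mk (O.ι ≫ U.hom)
  let j : U₁ ⟶ U := Over.homMk O.ι rfl
  haveI := AlgStLib.isFibGrpd_overCat U
  haveI := AlgStLib.isFibGrpd_overCat U₁
  haveI := AlgStLib.isFibGrpd_overCat V
  haveI : IsFibGrpd (fp f y).p := isFibGrpd_fp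
  obtain ⟨x₁, e, hx₁, hx₁s⟩ := exists_chart_restrict h𝒳 hQ hx hxs O hO
  let α : BasedFunctor.comp x₁ (BasedFunctor.comp (AlgSt.subIncl 𝒳 Q) f) ≅
      BasedFunctor.comp (AlgSt.overMap (j ≫ k)) y :=
    eqToIso (congrArg (BasedFunctor.comp · f) e) ≪≫ whiskerLeftIso' (AlgSt.overMap j) (fpSq d β) ≪≫
      eqToIso (by rw [AlgStLib.overMap_comp]; rfl)
  refine ⟨fun h => ?_, fun h => ⟨U₁, V, x₁, y, j ≫ k, α, hx₁, hx₁s, hy, (locP_yon_map_iff (j ≫ k)).2 h⟩⟩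
  let L := fpLift (F := BasedFunctor.comp (AlgSt.subIncl 𝒳 Q) f) (G := y) x₁ (AlgSt.overMap (j ≫ k)) α
  let ι := pairLeft (AlgSt.subIncl 𝒳 Q) f y
  haveI : ι.toFunctor.Faithful := ⟨fun {_ _ _ _} h =>
    fp_hom_ext ((AlgSt.subIncl 𝒳 Q).toFunctor.map_injective (congrArg (fun t => t.hom.fst) h))
      (congrArg (fun t => t.hom.snd) h)⟩
  haveI : ι.toFunctor.Full := ⟨fun {a b} m => by
    refine ⟨ObjectProperty.homMk ⟨(AlgSt.subIncl 𝒳 Q).toFunctor.preimage m.hom.fst, m.hom.snd, ?_⟩,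
      fp_hom_ext ((AlgSt.subIncl 𝒳 Q).toFunctor.map_preimage _) rfl⟩
    have w := m.hom.w
    change f.map m.hom.fst ≫ (𝟙 _ ≫ b.obj.iso.hom ≫ 𝟙 _) = (𝟙 _ ≫ a.obj.iso.hom ≫ 𝟙 _) ≫ y.map m.hom.snd at w
    show f.map ((AlgSt.subIncl 𝒳 Q).map ((AlgSt.subIncl 𝒳 Q).toFunctor.preimage m.hom.fst)) ≫ _ = _
    rw [(AlgSt.subIncl 𝒳 Q).toFunctor.map_preimage]
    simpa using w⟩
  have hr : AlgSt.RepByAlgSpWith (LocP @Smooth) (BasedFunctor.comp (AlgSt.overMap j) d) :=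
    repByAlgSpWith_comp' good_smooth (repByAlgSpWith_overMap good_smooth.bc j
      ((locP_yon_map_iff j).2 (inferInstanceAs (Smooth O.ι)))) hd
  have κ : BasedFunctor.comp L ι ≅ BasedFunctor.comp (AlgSt.overMap j) d := by
    refine fpIsoExt _ _ (eqToIso e) (eqToIso (AlgStLib.overMap_comp j k) ≪≫ whiskerLeftIso' (AlgSt.overMap j) β.symm) ?_
    intro o
    simp [α, L, ι, pairLeft, fpSq]
    let o' := (AlgSt.overMap j).obj o
    change f.map (appIso (eqToIso e) o).hom ≫ (d.obj o').obj.iso.hom =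
      (𝟙 _ ≫ ((appIso (eqToIso (congrArg (BasedFunctor.comp · f) e)) o).hom ≫
        ((d.obj o').obj.iso.hom ≫ y.map (appIso β o').hom) ≫ 𝟙 _) ≫ 𝟙 _) ≫ y.map (appIso β o').inv
    have hh : (appIso (eqToIso (congrArg (BasedFunctor.comp · f) e)) o).hom = f.map (appIso (eqToIso e) o).hom := by
      exact appIso_eqToIso_comp f e o
    rw [hh]
    simp [← Functor.map_comp]
  have hL : AlgSt.RepByAlgSpWith (LocP @Smooth) L :=
    repByAlgSpWith_of_comp_ff L ι (repByAlgSpWith_congr κ.symm hr)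
  exact (locP_yon_map_iff (j ≫ k)).1
    (prop_chartOver isSmoothLocalST_smooth hQ.2.1 h𝒴 h hy (h := j ≫ k) (d := L) (Iso.refl _) hL)

end OpenSmoothLib

namespace OpenSmoothLib

variable {S : Scheme.{u}} {𝒳 𝒴 : AlgSt.Cat S}

lemma smooth_of_sub {U V : Scheme.{u}} (k : U ⟶ V) {O O' : U.Opens} (h : O' ≤ O) [Smooth (O.ι ≫ k)] :
    Smooth (O'.ι ≫ k) := by
  rw [← U.homOfLE_ι h, Category.assoc]
  infer_instance

lemma smooth_of_cover {U V : Scheme.{u}} (k : U ⟶ V) {O : U.Opens} {J : Type*} (Oi : J → U.Opens)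
    (hO : ∀ t, t ∈ O → ∃ i, t ∈ Oi i) (h : ∀ i, Smooth ((Oi i).ι ≫ k)) : Smooth (O.ι ≫ k) := by
  choose i hi using hO
  refine (IsZariskiLocalAtSource.iff_of_iSup_eq_top (P := @Smooth) (fun t : O.toScheme => O.ι ⁻¹ᵁ Oi (i t.1 t.2)) ?_).2
    fun t => ?_
  · exact TopologicalSpace.Opens.ext (Set.eq_univ_of_forall fun t =>
      TopologicalSpace.Opens.mem_iSup.2 ⟨t, hi t.1 t.2⟩)
  · let l := IsOpenImmersion.lift (Oi (i t.1 t.2)).ι ((O.ι ⁻¹ᵁ Oi (i t.1 t.2)).ι ≫ O.ι) (by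
      rintro _ ⟨s, rfl⟩
      rw [Scheme.Opens.range_ι]
      exact s.2)
    have e : l ≫ (Oi (i t.1 t.2)).ι = (O.ι ⁻¹ᵁ Oi (i t.1 t.2)).ι ≫ O.ι := IsOpenImmersion.lift_fac _ _ _
    haveI := h (i t.1 t.2)
    haveI : IsOpenImmersion (l ≫ (Oi (i t.1 t.2)).ι) := by rw [e]; infer_instance
    haveI : IsOpenImmersion l := IsOpenImmersion.of_comp l (Oi (i t.1 t.2)).ι
    rw [← Category.assoc, ← e, Category.assoc]
    infer_instance

/-- There is a largest open substack of smoothness. -/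
theorem exists_largest (h𝒳 : AlgSt.IsAlgStack Scheme.fppfPrecoverage 𝒳)
    (h𝒴 : AlgSt.IsAlgStack Scheme.fppfPrecoverage 𝒴) (f : 𝒳 ⥤ᵇ 𝒴) :
    ∃ Q : 𝒳.obj → Prop, AlgSt.IsOpenSubstack 𝒳 Q Scheme.fppfPrecoverage ∧
      AlgSt.LocQ (AlgSp.LocP @Smooth) (BasedFunctor.comp (AlgSt.subIncl 𝒳 Q) f) ∧
      ∀ Q' : 𝒳.obj → Prop, AlgSt.IsOpenSubstack 𝒳 Q' Scheme.fppfPrecoverage →
        AlgSt.LocQ (AlgSp.LocP @Smooth) (BasedFunctor.comp (AlgSt.subIncl 𝒳 Q') f) → ∀ a, Q' a → Q a := by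
  haveI := isFibGrpd_of_isAlgStack h𝒳
  let I := {Q' : 𝒳.obj → Prop // AlgSt.IsOpenSubstack 𝒳 Q' Scheme.fppfPrecoverage ∧
    AlgSt.LocQ (AlgSp.LocP @Smooth) (BasedFunctor.comp (AlgSt.subIncl 𝒳 Q') f)}
  obtain ⟨Q, hQ, hle, hT⟩ := exists_union_openSubstack h𝒳 (fun i : I => i.1) fun i => i.2.1
  refine ⟨Q, hQ, ?_, fun Q' h1 h2 a ha => hle ⟨Q', h1, h2⟩ a ha⟩
  obtain ⟨V, y, hy, hys⟩ := h𝒴.atlas
  obtain ⟨U, d, k, ⟨β⟩, hd, -, hx, hxs⟩ := exists_chartOver h𝒳 h𝒴 f y hy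
  let O := chartOpens h𝒳 ((bijOn_openSubstack h𝒳).1 hQ) (BasedFunctor.comp d (FibCat.fpFst f y))
  refine (locQ_smooth_sub_iff h𝒳 h𝒴 hQ f hy β hd hx (hxs hys) O fun t => Iff.rfl).2 ?_
  refine smooth_of_cover k.left
    (fun i : I => chartOpens h𝒳 ((bijOn_openSubstack h𝒳).1 i.2.1) (BasedFunctor.comp d (FibCat.fpFst f y)))
    (fun t ht => ?_) fun i =>
      (locQ_smooth_sub_iff h𝒳 h𝒴 i.2.1 f hy β hd hx (hxs hys) _ fun t => Iff.rfl).1 i.2.2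
  obtain ⟨i, hi⟩ := Set.mem_iUnion.1 ((Set.ext_iff.1 hT _).1 ht)
  exact ⟨i, hi⟩

end OpenSmoothLib
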