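import Groth.Agent.OpenSmoothLib.Basic
import Groth.Agent.AlgStLib.LocQ5

/-! Formation of the smooth locus commutes with smooth maps to the source. -/

set_option autoImplicit false
set_option linter.all false
set_option backward.isDefEq.respectTransparency false
set_option backward.isDefEq.respectTransparency.types false

noncomputable section

universe u

open CategoryTheory CategoryTheory.Limits AlgebraicGeometry Opposite AlgSp FibCat FibLib AlgSpLib AlgStLib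

namespace OpenSmoothLib

variable {S : Scheme.{u}} {𝒳' 𝒳 𝒴 : AlgSt.Cat S}

lemma ptsIn_obj_preimage [IsFibGrpd 𝒳'.p] [IsFibGrpd 𝒳.p] (g : 𝒳' ⥤ᵇ 𝒳) (T : Set (AlgSt.Points 𝒳)) (a : 𝒳'.obj) :
    PtsIn T (g.obj a) ↔ PtsIn (AlgSt.Points.map g ⁻¹' T) a := by
  refine ⟨fun h p m => h (p.map g) (g.map m), fun h p m => ?_⟩
  let β : Over.mk p.str ⟶ 𝒳'.p.obj a := eqToHom p.lies.symm ≫ 𝒳.p.map m ≫ eqToHom (g.w_obj a)
  haveI : 𝒳.p.IsHomLift β m := IsHomLift.of_fac _ _ _ p.lies (g.w_obj a) rfl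
  obtain ⟨z, φ, hφ⟩ := exists_lift 𝒳'.p (a := a) rfl β
  haveI := g.preserves_isHomLift β φ
  obtain ⟨χ, -⟩ := exists_vert_to_lift β m (g.map φ)
  let q : AlgSt.FPt 𝒳' := { K := p.K, str := p.str, obj := z, lies := IsHomLift.domain_eq 𝒳'.p β φ }
  rw [mk_eq_of_hom (q := q.map g) χ]
  exact h q φ

/-- Formation of the smooth locus commutes with smooth morphisms. -/
theorem largest_comp (h𝒳' : AlgSt.IsAlgStack Scheme.fppfPrecoverage 𝒳')
    (h𝒳 : AlgSt.IsAlgStack Scheme.fppfPrecoverage 𝒳) (h𝒴 : AlgSt.IsAlgStack Scheme.fppfPrecoverage 𝒴)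
    (g : 𝒳' ⥤ᵇ 𝒳) (hg : AlgSt.LocQ (AlgSp.LocP @Smooth) g) (f : 𝒳 ⥤ᵇ 𝒴)
    (Q : 𝒳.obj → Prop) (hQ₁ : AlgSt.IsOpenSubstack 𝒳 Q Scheme.fppfPrecoverage)
    (hQ₂ : AlgSt.LocQ (AlgSp.LocP @Smooth) (BasedFunctor.comp (AlgSt.subIncl 𝒳 Q) f))
    (hQ₃ : ∀ Q' : 𝒳.obj → Prop, AlgSt.IsOpenSubstack 𝒳 Q' Scheme.fppfPrecoverage →
      AlgSt.LocQ (AlgSp.LocP @Smooth) (BasedFunctor.comp (AlgSt.subIncl 𝒳 Q') f) → ∀ a, Q' a → Q a) :
    AlgSt.IsOpenSubstack 𝒳' (fun a ↦ Q (g.obj a)) Scheme.fppfPrecoverage ∧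
      AlgSt.LocQ (AlgSp.LocP @Smooth)
        (BasedFunctor.comp (AlgSt.subIncl 𝒳' (fun a ↦ Q (g.obj a))) (BasedFunctor.comp g f)) ∧
      ∀ Q' : 𝒳'.obj → Prop, AlgSt.IsOpenSubstack 𝒳' Q' Scheme.fppfPrecoverage →
        AlgSt.LocQ (AlgSp.LocP @Smooth) (BasedFunctor.comp (AlgSt.subIncl 𝒳' Q') (BasedFunctor.comp g f)) →
        ∀ a, Q' a → Q (g.obj a) := by
  haveI := isFibGrpd_of_isAlgStack h𝒳'
  haveI := isFibGrpd_of_isAlgStack h𝒳
  haveI := isFibGrpd_of_isAlgStack h𝒴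
  let T := Set.range (AlgSt.Points.map (AlgSt.subIncl 𝒳 Q))
  have hT : IsOpen T := (bijOn_openSubstack h𝒳).1 hQ₁
  let T' := AlgSt.Points.map g ⁻¹' T
  have hT' : IsOpen T' := hT.preimage (continuous_map h𝒳.atlas g)
  have hQg : (fun a ↦ Q (g.obj a)) = PtsIn T' := funext fun a => propext
    ((iff_of_eq (congrFun (openSubstack_eq h𝒳 hQ₁) (g.obj a))).trans (ptsIn_obj_preimage g T a))
  have hQ' : AlgSt.IsOpenSubstack 𝒳' (PtsIn T') Scheme.fppfPrecoverage := isOpenSubstack_ptsIn h𝒳' hT'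
  obtain ⟨V, y, hy, hys⟩ := h𝒴.atlas
  obtain ⟨U, d, k, ⟨β⟩, hd, hds, hx, hxs⟩ := exists_chartOver h𝒳 h𝒴 f y hy
  let x := BasedFunctor.comp d (FibCat.fpFst f y)
  obtain ⟨U', d', h, ⟨β'⟩, hd', hds', hx', hxs'⟩ := exists_chartOver h𝒳' h𝒳 g x hx
  haveI := AlgStLib.isFibGrpd_overCat U
  haveI := AlgStLib.isFibGrpd_overCat U'
  haveI := AlgStLib.isFibGrpd_overCat V
  haveI : IsFibGrpd (fp f y).p := isFibGrpd_fp
  haveI : IsFibGrpd (fp g x).p := isFibGrpd_fp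
  haveI : IsFibGrpd (fp g (FibCat.fpFst f y)).p := isFibGrpd_fp
  let P₁ := BasedFunctor.comp (pairRight d g (FibCat.fpFst f y)) (fpPaste g f y)
  let L : overCat U' ⥤ᵇ fp (BasedFunctor.comp g f) y := BasedFunctor.comp d' P₁
  have hP₁ : AlgSt.RepByAlgSpWith (LocP @Smooth) P₁ :=
    (repByAlgSpWith_square_iff (f := pairRight d g (FibCat.fpFst f y)) (f' := P₁) (a := BasedFunctor.id _)
      (b := (exists_inverse (isEquivOver_fpPaste g f y)).choose) (isEquivOver_id _)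
      (exists_inverse (isEquivOver_fpPaste g f y)).choose_spec.1
      (whiskerLeftIso' (pairRight d g (FibCat.fpFst f y))
        (exists_inverse (isEquivOver_fpPaste g f y)).choose_spec.2.1.some) _).mp
      (repByAlgSpWith_pairRight d g (FibCat.fpFst f y) hd)
  let δ : BasedFunctor.comp L (FibCat.fpSnd (BasedFunctor.comp g f) y) ≅ AlgSt.overMap (h ≫ k) :=
    whiskerRightIso' β' (BasedFunctor.comp d (FibCat.fpSnd f y)) ≪≫ whiskerLeftIso' (AlgSt.overMap h) β ≪≫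
      eqToIso (AlgStLib.overMap_comp h k).symm
  have hL : AlgSt.RepByAlgSpWith (LocP @Smooth) L := repByAlgSpWith_comp' good_smooth hd' hP₁
  have hh : Smooth h.left :=
    (locP_yon_map_iff h).1 (prop_chartOver isSmoothLocalST_smooth h𝒳' h𝒳 hg hx β' hd')
  have hpt : ∀ t, AlgSt.Points.map g (AlgSt.Points.ofChart (BasedFunctor.comp d' (FibCat.fpFst g x)) t) =
      AlgSt.Points.ofChart x (h.left t) := fun t => by
    refine ((congrFun (ofChart_comp _ g) t).symm).trans ?_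
    rw [ofChart_congr (fpSq d' β')]
    exact congrFun (ofChart_overMap h x) t
  let O := chartOpens h𝒳 hT x
  refine ⟨hQg ▸ hQ', ?_, fun Q' hQ'₁ hQ'₂ a ha => ?_⟩
  · rw [hQg]
    refine (locQ_smooth_sub_iff h𝒳' h𝒴 hQ' (BasedFunctor.comp g f) hy δ hL hx' (hxs' (hxs hys)) (h.left ⁻¹ᵁ O)
      fun t => ?_).2 ?_
    · rw [range_subIncl_ptsIn]
      show AlgSt.Points.ofChart x (h.left t) ∈ T ↔ _
      rw [← hpt]
      rfl
    · haveI := hh
      haveI : Smooth (O.ι ≫ k.left) := (locQ_smooth_sub_iff h𝒳 h𝒴 hQ₁ f hy β hd hx (hxs hys) O fun t => Iff.rfl).1 hQ₂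
      rw [Over.comp_left, ← morphismRestrict_ι_assoc]
      infer_instance
  · let T'' := Set.range (AlgSt.Points.map (AlgSt.subIncl 𝒳' Q'))
    have hT'' : IsOpen T'' := (bijOn_openSubstack h𝒳').1 hQ'₁
    obtain ⟨gU, gV, gx, gy, gh, gα, gr₁, gr₂, gr₃, gP⟩ := id hg
    have hop : IsOpenMap (AlgSt.Points.map g) := isOpenMor_of_flat_lfp h𝒳' h𝒳 g
      ⟨gU, gV, gx, gy, gh, gα, gr₁, gr₂, gr₃, locP_flat_of_smooth gP⟩
      ⟨gU, gV, gx, gy, gh, gα, gr₁, gr₂, gr₃, locP_lfp_of_smooth gP⟩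
    let T₁ := AlgSt.Points.map g '' T''
    have hT₁ : IsOpen T₁ := hop _ hT''
    let O'' := chartOpens h𝒳' hT'' (BasedFunctor.comp d' (FibCat.fpFst g x))
    haveI hsm : Smooth (O''.ι ≫ h.left ≫ k.left) := by
      rw [← Over.comp_left]
      exact (locQ_smooth_sub_iff h𝒳' h𝒴 hQ'₁ (BasedFunctor.comp g f) hy δ hL hx' (hxs' (hxs hys)) O''
        fun t => Iff.rfl).1 hQ'₂
    haveI := hh
    let W : U.left.Opens := ⟨h.left '' (O'' : Set U'.left), h.left.isOpenMap _ O''.2⟩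
    have hW : O'' ≤ h.left ⁻¹ᵁ W := fun t ht => ⟨t, ht, rfl⟩
    let r := h.left.resLE W O'' hW
    haveI : Surjective r := ⟨fun w => by
      obtain ⟨t, ht, htw⟩ := w.2
      refine ⟨⟨t, ht⟩, W.ι.isOpenEmbedding.injective ?_⟩
      rw [← Scheme.Hom.comp_apply, Scheme.Hom.resLE_comp_ι, Scheme.Hom.comp_apply]
      exact htw⟩
    haveI : Smooth r := IsZariskiLocalAtSource.resLE (P := @Smooth) hW inferInstance
    haveI : Smooth (r ≫ W.ι ≫ k.left) := by rw [Scheme.Hom.resLE_comp_ι_assoc]; exact hsm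
    have hWk : Smooth (W.ι ≫ k.left) := Groth.Agent.S0115.result r _
    have hQ₁' : AlgSt.IsOpenSubstack 𝒳 (PtsIn T₁) Scheme.fppfPrecoverage := isOpenSubstack_ptsIn h𝒳 hT₁
    refine hQ₃ _ hQ₁' ((locQ_smooth_sub_iff h𝒳 h𝒴 hQ₁' f hy β hd hx (hxs hys) W fun t => ?_).2 hWk) _ ?_
    · rw [range_subIncl_ptsIn]
      constructor
      · rintro ⟨t', ht', rfl⟩
        exact ⟨_, ht', hpt t'⟩
      · rintro ⟨p, hp, hpe⟩
        obtain ⟨w, hw₁, hw₂⟩ := exists_point_fp (g := g) (f := x) p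
          (AlgSt.Points.ofChart (BasedFunctor.id (overCat U)) t)
          (hpe.trans (congrFun (ofChart_comp (BasedFunctor.id (overCat U)) x) t))
        obtain ⟨t', rfl⟩ := surjective_ofChart hds' w
        have e1 : AlgSt.Points.ofChart (BasedFunctor.id (overCat U)) (h.left t') =
            AlgSt.Points.ofChart (BasedFunctor.id (overCat U)) t := by
          rw [← hw₂]
          refine ((congrFun (ofChart_overMap h (BasedFunctor.id (overCat U))) t').symm).trans ?_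
          refine Eq.trans ?_ (congrFun (ofChart_comp d' _) t')
          rw [ofChart_congr β']
          rfl
        have hinj : Function.Injective (AlgSt.Points.ofChart (BasedFunctor.id (overCat U))) := by
          rw [ofChart_eq]
          exact ((map_bijective_of_isEquivOver (AlgStLib.isEquivOver_toOverCat U)).1.comp
            (ptsEquiv _).symm.injective).comp (AlgSp.Points.schemeHomeo U).injective
        refine ⟨t', ?_, hinj e1⟩
        show AlgSt.Points.ofChart (BasedFunctor.comp d' (FibCat.fpFst g x)) t' ∈ T''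
        rw [congrFun (ofChart_comp d' (FibCat.fpFst g x)) t', Function.comp_apply, hw₁]
        exact hp
    · refine (ptsIn_obj_preimage g T₁ a).2 fun p m => ?_
      exact ⟨_, (congrFun (openSubstack_eq h𝒳' hQ'₁) a ▸ ha : PtsIn T'' a) p m, rfl⟩

end OpenSmoothLib
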